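import Mathlib

/-!
Standard monomials in a Noetherian local ring: lengths of `O ⧸ J` as numbers of exponents outside
the "leading exponent" monoid ideal of `J`.
-/

set_option autoImplicit false

namespace H1Lech

open IsLocalRing Finsupp

variable {O : Type*} [CommRing O] [IsLocalRing O] {s : ℕ} (x : Fin s → O)

/-- The monomial `x^c`. -/
noncomputable def mon (c : Fin s →₀ ℕ) : O := ∏ j, x j ^ c j

lemma mon_zero : mon x 0 = 1 := by simp [mon]

lemma mon_add (c d : Fin s →₀ ℕ) : mon x (c + d) = mon x c * mon x d := by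
  simp [mon, pow_add, Finset.prod_mul_distrib]

lemma mon_single (j : Fin s) : mon x (single j 1) = x j := by
  unfold mon
  rw [Finset.prod_eq_single j]
  · simp
  · intro i _ hi
    simp [hi]
  · simp

/-- The ideal spanned by the monomials strictly bigger than `c`. -/
noncomputable def Hi (c : Fin s →₀ ℕ) : Ideal O :=
  Ideal.span (mon x '' {d | toDegLex c < toDegLex d})

/-- The leading exponents of an ideal. -/
def U (J : Ideal O) : Set (Fin s →₀ ℕ) := {c | mon x c ∈ J ⊔ Hi x c}

lemma U_mono {J J' : Ideal O} (h : J ≤ J') : U x J ⊆ U x J' := fun _ hc =>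
  (sup_le_sup_right h _ : _ ≤ _) hc

lemma Hi_mul_mon {c d : Fin s →₀ ℕ} {h : O} (hh : h ∈ Hi x c) :
    h * mon x d ∈ Hi x (c + d) := by
  have : Hi x c * Ideal.span {mon x d} ≤ Hi x (c + d) := by
    rw [Hi, Ideal.span_mul_span', Hi, Ideal.span_le]
    rintro _ ⟨_, ⟨e, he, rfl⟩, _, rfl, rfl⟩
    refine Ideal.subset_span ⟨e + d, ?_, mon_add x e d⟩
    show toDegLex (c + d) < toDegLex (e + d)
    rw [toDegLex_add, toDegLex_add]
    exact add_lt_add_of_lt_of_le he le_rfl
  exact this (Ideal.mul_mem_mul hh (Ideal.mem_span_singleton_self _))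

lemma Hi_mul_Hi {c d : Fin s →₀ ℕ} {h h' : O} (hh : h ∈ Hi x c) (hh' : h' ∈ Hi x d) :
    h * h' ∈ Hi x (c + d) := by
  have : Hi x c * Hi x d ≤ Hi x (c + d) := by
    rw [Hi, Hi, Ideal.span_mul_span', Hi, Ideal.span_le]
    rintro _ ⟨_, ⟨e, he, rfl⟩, _, ⟨e', he', rfl⟩, rfl⟩
    refine Ideal.subset_span ⟨e + e', ?_, mon_add x e e'⟩
    show toDegLex (c + d) < toDegLex (e + e')
    rw [toDegLex_add, toDegLex_add]
    exact add_lt_add he he'
  exact this (Ideal.mul_mem_mul hh hh')

lemma U_add {J J' : Ideal O} {c d : Fin s →₀ ℕ} (hc : c ∈ U x J) (hd : d ∈ U x J') :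
    c + d ∈ U x (J * J') := by
  obtain ⟨f, hf, h, hh, e1⟩ := Submodule.mem_sup.mp hc
  obtain ⟨g, hg, h', hh', e2⟩ := Submodule.mem_sup.mp hd
  show mon x (c + d) ∈ J * J' ⊔ Hi x (c + d)
  have e3 : mon x (c + d) = f * g + ((h * mon x d + mon x c * h') - h * h') := by
    rw [mon_add, ← e1, ← e2]; ring
  rw [e3]
  refine Submodule.add_mem_sup (Ideal.mul_mem_mul hf hg) (sub_mem (add_mem ?_ ?_) ?_)
  · exact Hi_mul_mon x hh
  · rw [mul_comm, add_comm c d]
    exact Hi_mul_mon x hh'
  · exact Hi_mul_Hi x hh hh'

lemma U_top (c : Fin s →₀ ℕ) : c ∈ U x (⊤ : Ideal O) := by simp [U]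

lemma U_add_right {J : Ideal O} {c : Fin s →₀ ℕ} (hc : c ∈ U x J) (d : Fin s →₀ ℕ) :
    c + d ∈ U x J := by
  simpa using U_add x hc (U_top x d)

lemma U_upper {J : Ideal O} {c d : Fin s →₀ ℕ} (hc : c ∈ U x J) (h : c ≤ d) : d ∈ U x J := by
  have := U_add_right x hc (d - c)
  rwa [add_tsub_cancel_of_le h] at this

lemma U_nsmul {J : Ideal O} {c : Fin s →₀ ℕ} (hc : c ∈ U x J) (n : ℕ) :
    n • c ∈ U x (J ^ n) := by
  induction n with
  | zero => rw [pow_zero, Ideal.one_eq_top]; exact U_top x _
  | succ n ih => rw [succ_nsmul, pow_succ]; exact U_add x ih hc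

variable (hx : Ideal.span (Set.range x) = maximalIdeal O)
include hx

lemma x_mem (j : Fin s) : x j ∈ maximalIdeal O := hx ▸ Ideal.subset_span ⟨j, rfl⟩

lemma mon_mem (c : Fin s →₀ ℕ) : mon x c ∈ maximalIdeal O ^ c.degree := by
  have h : ∏ j, x j ^ c j ∈ ∏ j : Fin s, maximalIdeal O ^ c j :=
    Ideal.prod_mem_prod fun j _ => Ideal.pow_mem_pow (x_mem x hx j) _
  rw [Finset.prod_pow_eq_pow_sum] at h
  rwa [Finsupp.degree_eq_sum]

lemma pow_le_span (n : ℕ) :
    maximalIdeal O ^ n ≤ Ideal.span (mon x '' {d | d.degree = n}) := by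
  induction n with
  | zero =>
    refine le_of_le_of_eq le_top (Eq.symm ?_)
    rw [Ideal.eq_top_iff_one]
    exact Ideal.subset_span ⟨0, by simp, mon_zero x⟩
  | succ n ih =>
    rw [pow_succ]
    refine le_trans (mul_le_mul' ih (le_of_eq hx.symm)) ?_
    rw [Ideal.span_mul_span', Ideal.span_le]
    rintro _ ⟨_, ⟨d, hd, rfl⟩, _, ⟨j, rfl⟩, rfl⟩
    refine Ideal.subset_span ⟨d + single j 1, ?_, ?_⟩
    · show (d + single j 1).degree = n + 1
      simp only [Set.mem_ofPred_eq] at hd
      rw [map_add, hd, degree_single]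
    · rw [mon_add, mon_single]

/-- In degree `< n`, `m ^ n` creates no new leading exponents. -/
lemma notMem_U_pow {n : ℕ} {c : Fin s →₀ ℕ} (hc : c.degree < n) (h : c ∉ U x (⊥ : Ideal O)) :
    c ∉ U x (maximalIdeal O ^ n) := by
  intro hU
  apply h
  have hle : maximalIdeal O ^ n ≤ Hi x c := by
    refine le_trans (pow_le_span x hx n) (Ideal.span_mono (Set.image_mono ?_))
    intro d hd
    simp only [Set.mem_ofPred_eq] at hd ⊢
    rw [DegLex.lt_iff]
    left
    simp only [ofDegLex_toDegLex]
    omega
  show mon x c ∈ ⊥ ⊔ Hi x c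
  rw [bot_sup_eq]
  exact (sup_le hle le_rfl : _ ≤ Hi x c) hU

omit [IsLocalRing O] hx in
/-- The finite set of exponents of degree `< N`. -/
noncomputable def box (s N : ℕ) : Finset (Fin s →₀ ℕ) :=
  ((Finset.univ : Finset (Fin s → Fin N)).image
    fun τ => equivFunOnFinite.symm fun j => (τ j : ℕ)).filter fun c => c.degree < N

omit [IsLocalRing O] hx in
lemma mem_box {N : ℕ} {c : Fin s →₀ ℕ} : c ∈ box s N ↔ c.degree < N := by
  refine ⟨fun h => (Finset.mem_filter.mp h).2, fun h => Finset.mem_filter.mpr ⟨?_, h⟩⟩
  refine Finset.mem_image.mpr ⟨fun j => ⟨c j, lt_of_le_of_lt (le_degree j c) h⟩,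
    Finset.mem_univ _, ?_⟩
  ext j
  simp

/-- Length of `O ⧸ J` = number of standard monomials of `J`. -/
theorem length_eq_card {J : Ideal O} {N : ℕ} (hJ : maximalIdeal O ^ N ≤ J)
    [DecidablePred (· ∈ U x J)] :
    Module.length O (O ⧸ J) = (((box s N).filter fun c => c ∉ U x J).card : ℕ∞) := by
  classical
  let Q : Finset (Fin s →₀ ℕ) → Ideal O := fun D => J ⊔ Ideal.span (mon x '' (D : Set _))
  have key : ∀ D : Finset (DegLex (Fin s →₀ ℕ)),
      (∀ a ∈ D, (ofDegLex a).degree < N) →
      (∀ a ∈ D, ∀ b, a < b → (ofDegLex b).degree < N → b ∈ D) →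
      Module.length O (O ⧸ J) = Module.length O (O ⧸ Q (D.image ofDegLex)) +
        (((D.image ofDegLex).filter fun c => c ∉ U x J).card : ℕ∞) := by
    intro D
    induction D using Finset.induction_on_min with
    | empty =>
      intro _ _
      have : Q ((∅ : Finset (DegLex (Fin s →₀ ℕ))).image ofDegLex) = J := by simp [Q]
      rw [this]; simp
    | insert a D ha ih =>
      intro hdeg hup
      have haD : a ∉ D := fun h => lt_irrefl _ (ha a h)
      have ih' := ih (fun b hb => hdeg b (Finset.mem_insert_of_mem hb)) (fun b hb c hbc hc => by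
        rcases Finset.mem_insert.mp (hup b (Finset.mem_insert_of_mem hb) c hbc hc) with rfl | h
        · exact absurd (lt_trans (ha b hb) hbc) (lt_irrefl _)
        · exact h)
      obtain ⟨c, rfl⟩ : ∃ c, toDegLex c = a := ⟨ofDegLex a, rfl⟩
      set D' := D.image ofDegLex with hD'
      have hcD : c ∉ D' := by
        rw [hD', Finset.mem_image]
        rintro ⟨b, hb, hbc⟩
        exact haD (by rw [← hbc, toDegLex_ofDegLex]; exact hb)
      have hQ : Q D' = J ⊔ Hi x c := by
        apply le_antisymm
        · refine sup_le le_sup_left (le_trans ?_ le_sup_right)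
          refine Ideal.span_mono (Set.image_mono ?_)
          intro d hd
          obtain ⟨b, hb, rfl⟩ := Finset.mem_image.mp hd
          show toDegLex c < toDegLex (ofDegLex b)
          rw [toDegLex_ofDegLex]
          exact ha b hb
        · refine sup_le le_sup_left ?_
          rw [Hi, Ideal.span_le]
          rintro _ ⟨d, hd, rfl⟩
          by_cases hdN : d.degree < N
          · refine (le_sup_right : _ ≤ Q D') (Ideal.subset_span ⟨d, ?_, rfl⟩)
            rcases Finset.mem_insert.mp
                (hup _ (Finset.mem_insert_self _ _) (toDegLex d) hd (by simpa using hdN)) with h | h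
            · have hd' : toDegLex c < toDegLex d := hd
              exact absurd hd' (by rw [h]; exact lt_irrefl _)
            · exact Finset.mem_image.mpr ⟨_, h, rfl⟩
          · exact (le_sup_left : _ ≤ Q D')
              (hJ (Ideal.pow_le_pow_right (not_lt.mp hdN) (mon_mem x hx d)))
      have himg : (insert (toDegLex c) D).image ofDegLex = insert c D' := by
        rw [Finset.image_insert, ofDegLex_toDegLex]
      have hQ' : Q (insert c D') = Q D' ⊔ Ideal.span {mon x c} := by
        simp only [Q, Finset.coe_insert, Set.image_insert_eq, Ideal.span_insert]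
        ac_rfl
      rw [himg, Finset.filter_insert]
      by_cases hcU : c ∈ U x J
      · have hm : mon x c ∈ Q D' := by rw [hQ]; exact hcU
        have : Q (insert c D') = Q D' := by
          rw [hQ', sup_eq_left, Ideal.span_singleton_le_iff_mem]; exact hm
        rw [this, if_neg (not_not.mpr hcU)]
        exact ih'
      · rw [if_pos hcU, Finset.card_insert_of_notMem (fun h => hcD (Finset.mem_filter.mp h).1),
          ih']
        have hm : mon x c ∉ Q D' := by rw [hQ]; exact hcU
        have hle : Q D' ≤ Q (insert c D') := by rw [hQ']; exact le_sup_left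
        let t : O →ₗ[O] O ⧸ Q D' :=
          LinearMap.toSpanSingleton O _ (Ideal.Quotient.mk (Q D') (mon x c))
        have htapp : ∀ r, t r = Ideal.Quotient.mk (Q D') (r * mon x c) := fun r => by
          simp [t, LinearMap.toSpanSingleton_apply, Algebra.smul_def]
        have hmker : maximalIdeal O ≤ LinearMap.ker t := by
          rw [← hx, Ideal.span_le]
          rintro _ ⟨j, rfl⟩
          rw [SetLike.mem_coe, LinearMap.mem_ker, htapp, Ideal.Quotient.eq_zero_iff_mem, hQ]
          refine (le_sup_right : _ ≤ J ⊔ Hi x c) (Ideal.subset_span ⟨single j 1 + c, ?_, ?_⟩)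
          · show toDegLex c < toDegLex (single j 1 + c)
            rw [DegLex.lt_iff]
            left
            simp only [ofDegLex_toDegLex, map_add, degree_single]
            omega
          · rw [mon_add, mon_single]
        have hkert : LinearMap.ker t = maximalIdeal O := by
          refine ((maximalIdeal.isMaximal O).eq_of_le ?_ hmker).symm
          intro htop
          have h1 : (1 : O) ∈ LinearMap.ker t := by rw [htop]; trivial
          rw [LinearMap.mem_ker, htapp, one_mul, Ideal.Quotient.eq_zero_iff_mem] at h1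
          exact hm h1
        let f := Submodule.liftQ (maximalIdeal O) t hmker
        let g : (O ⧸ Q D') →ₗ[O] O ⧸ Q (insert c D') := Submodule.factor hle
        have hf : Function.Injective f := by
          rw [← LinearMap.ker_eq_bot]
          exact Submodule.ker_liftQ_eq_bot _ _ _ hkert.le
        have hg : Function.Surjective g := Submodule.factor_surjective hle
        have hex : Function.Exact f g := by
          rw [LinearMap.exact_iff]
          apply le_antisymm
          · intro y hy
            obtain ⟨r, rfl⟩ := Ideal.Quotient.mk_surjective y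
            have hr : r ∈ Q (insert c D') := by
              have := hy
              rw [LinearMap.mem_ker] at this
              exact Ideal.Quotient.eq_zero_iff_mem.mp this
            rw [hQ', Submodule.mem_sup] at hr
            obtain ⟨q, hq, w, hw, rfl⟩ := hr
            obtain ⟨v, rfl⟩ := Ideal.mem_span_singleton'.mp hw
            refine ⟨Submodule.Quotient.mk v, ?_⟩
            show t v = _
            rw [htapp, Ideal.Quotient.eq]
            have : v * mon x c - (q + v * mon x c) = -q := by ring
            rw [this]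
            exact neg_mem hq
          · rintro _ ⟨y, rfl⟩
            obtain ⟨r, rfl⟩ := Submodule.Quotient.mk_surjective _ y
            rw [LinearMap.mem_ker]
            show g (t r) = 0
            rw [htapp]
            refine Ideal.Quotient.eq_zero_iff_mem.mpr ?_
            rw [hQ']
            exact Submodule.mem_sup_right (Ideal.mem_span_singleton'.mpr ⟨r, rfl⟩)
        haveI : IsSimpleModule O (O ⧸ maximalIdeal O) :=
          isSimpleModule_iff_isCoatom.mpr (maximalIdeal.isMaximal O).out
        rw [Module.length_eq_add_of_exact f g hf hg hex, Module.length_eq_one]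
        push_cast
        ring
  have h := key ((box s N).image toDegLex)
    (fun a ha => by
      obtain ⟨c, hc, rfl⟩ := Finset.mem_image.mp ha
      simpa using mem_box.mp hc)
    (fun a _ b _ hb => Finset.mem_image.mpr ⟨ofDegLex b, mem_box.mpr hb, rfl⟩)
  have e : ((box s N).image toDegLex).image ofDegLex = box s N := by
    rw [Finset.image_image]
    exact Finset.image_id'
  rw [e] at h
  have hQ : Q (box s N) = ⊤ := by
    rcases Nat.eq_zero_or_pos N with rfl | hN
    · refine top_le_iff.mp (le_trans ?_ le_sup_left)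
      simpa using hJ
    · rw [Ideal.eq_top_iff_one]
      exact (le_sup_right : _ ≤ Q _)
        (Ideal.subset_span ⟨0, mem_box.mpr (by simpa using hN), mon_zero x⟩)
  rw [h, hQ]
  have : Module.length O (O ⧸ (⊤ : Ideal O)) = 0 := by
    haveI : Subsingleton (O ⧸ (⊤ : Ideal O)) := Submodule.Quotient.subsingleton_iff.mpr rfl
    exact Module.length_eq_zero
  rw [this, zero_add]

end H1Lech
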