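import Mathlib
import Groth.Agent.H1Lech.Basic

/-!
Counting standard monomials by Stanley-type cones.
-/

set_option autoImplicit false

namespace H1Lech

open IsLocalRing Finsupp

variable {O : Type*} [CommRing O] [IsLocalRing O] {s : ℕ} (x : Fin s → O)

/-- Truncation of exponents at `M`. -/
noncomputable def trunc (M : ℕ) (c : Fin s →₀ ℕ) : Fin s →₀ ℕ :=
  equivFunOnFinite.symm fun j => min (c j) M

@[simp] lemma trunc_apply (M : ℕ) (c : Fin s →₀ ℕ) (j : Fin s) : trunc M c j = min (c j) M := by
  simp [trunc]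

lemma exists_trunc_mem_U_iff :
    ∃ M : ℕ, ∀ c, trunc M c ∈ U x (⊥ : Ideal O) ↔ c ∈ U x (⊥ : Ideal O) := by
  set U0 := U x (⊥ : Ideal O)
  have hfin : {c | Minimal (· ∈ U0) c}.Finite :=
    WellQuasiOrderedLE.finite_of_isAntichain (setOf_minimal_antichain _)
  refine ⟨hfin.toFinset.sup fun c => c.degree, fun c => ⟨fun h => U_upper x h ?_, fun h => ?_⟩⟩
  · intro j
    simp
  · obtain ⟨g, hgc, hg⟩ := exists_minimal_le_of_wellFoundedLT (· ∈ U0) c h
    refine U_upper x hg.1 fun j => ?_
    rw [trunc_apply]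
    refine le_min (hgc j) (le_trans (le_degree j g) ?_)
    exact Finset.le_sup (f := fun c => c.degree) (hfin.mem_toFinset.mpr hg)

/-- The exponent with given truncated coordinates. -/
noncomputable def toExp {M : ℕ} (τ : Fin s → Fin (M + 1)) : Fin s →₀ ℕ :=
  equivFunOnFinite.symm fun j => (τ j : ℕ)

/-- The free coordinates of a cone. -/
def free {M : ℕ} (τ : Fin s → Fin (M + 1)) : Finset (Fin s) :=
  Finset.univ.filter fun j => (τ j : ℕ) = M

open Classical in
/-- Indices of the cones covering the standard monomials. -/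
noncomputable def cones (M : ℕ) : Finset (Fin s → Fin (M + 1)) :=
  Finset.univ.filter fun τ => toExp τ ∉ U x (⊥ : Ideal O)

variable (hx : Ideal.span (Set.range x) = maximalIdeal O)
include hx

theorem length_pow_le (M : ℕ) (hM : ∀ c, trunc M c ∈ U x (⊥ : Ideal O) ↔ c ∈ U x (⊥ : Ideal O))
    (I : Ideal O) {N : ℕ} (hN : maximalIdeal O ^ N ≤ I) {n : ℕ} (hn : 0 < n) :
    (Module.length O (O ⧸ I ^ n)).toNat ≤
      (Module.length O (O ⧸ I)).toNat * ∑ τ ∈ cones x M, n ^ (free τ).card := by
  classical
  have hNn : maximalIdeal O ^ (N * n) ≤ I ^ n := by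
    rw [pow_mul]; exact Ideal.pow_right_mono hN n
  rw [length_eq_card x hx hNn, length_eq_card x hx hN, ENat.toNat_coe, ENat.toNat_coe,
    Finset.mul_sum]
  set K := (box s N).filter fun c => c ∉ U x I
  set D := (box s (N * n)).filter fun c => c ∉ U x (I ^ n)
  let τof : (Fin s →₀ ℕ) → (Fin s → Fin (M + 1)) := fun c j =>
    ⟨min (c j) M, Nat.lt_succ_of_le (min_le_right _ _)⟩
  have hτ : ∀ c, toExp (τof c) = trunc M c := fun c => by ext j; simp [toExp, τof]
  have hmaps : ∀ c ∈ D, τof c ∈ cones x M := fun c hc => by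
    refine Finset.mem_filter.mpr ⟨Finset.mem_univ _, ?_⟩
    rw [hτ, hM]
    exact fun h => (Finset.mem_filter.mp hc).2 (U_mono x bot_le h)
  rw [Finset.card_eq_sum_card_fiberwise hmaps]
  refine Finset.sum_le_sum fun τ _ => ?_
  let fl : (Fin s →₀ ℕ) → (Fin s →₀ ℕ) := fun c => equivFunOnFinite.symm fun j => c j / n
  let f : (Fin s →₀ ℕ) → (Fin s →₀ ℕ) × (free τ → Fin n) := fun c =>
    (fl c, fun j => ⟨c j % n, Nat.mod_lt _ hn⟩)
  refine le_trans (Finset.card_le_card_of_injOn (t := K ×ˢ Finset.univ) f ?_ ?_) ?_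
  · intro c hc
    obtain ⟨hcD, -⟩ := Finset.mem_filter.mp hc
    refine Finset.mem_product.mpr ⟨?_, Finset.mem_univ _⟩
    have hnU : fl c ∉ U x I := fun h => by
      refine (Finset.mem_filter.mp hcD).2 (U_upper x (U_nsmul x h n) fun j => ?_)
      simp [fl, Nat.mul_div_le]
    refine Finset.mem_filter.mpr ⟨mem_box.mpr ?_, hnU⟩
    by_contra h
    exact hnU (Submodule.mem_sup_left (hN (Ideal.pow_le_pow_right (not_lt.mp h) (mon_mem x hx _))))
  · intro c hc d hd hcd
    have hc' : τof c = τ := (Finset.mem_filter.mp hc).2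
    have hd' : τof d = τ := (Finset.mem_filter.mp hd).2
    simp only [f, Prod.mk.injEq] at hcd
    ext j
    by_cases hj : j ∈ free τ
    · have h1 : c j / n = d j / n := by
        have := DFunLike.congr_fun hcd.1 j
        simpa [fl] using this
      have h2 : c j % n = d j % n := congrArg Fin.val (congrFun hcd.2 ⟨j, hj⟩)
      calc c j = n * (c j / n) + c j % n := (Nat.div_add_mod _ _).symm
        _ = d j := by rw [h1, h2, Nat.div_add_mod]
    · have hjM : (τ j : ℕ) ≠ M := fun h => hj (Finset.mem_filter.mpr ⟨Finset.mem_univ _, h⟩)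
      have h1 : min (c j) M = τ j := congrArg Fin.val (congrFun hc' j)
      have h2 : min (d j) M = τ j := congrArg Fin.val (congrFun hd' j)
      omega
  · simp [Finset.card_product]

theorem card_cones_mul_le (M : ℕ)
    (hM : ∀ c, trunc M c ∈ U x (⊥ : Ideal O) ↔ c ∈ U x (⊥ : Ideal O)) (k p : ℕ) :
    ((cones x M).filter fun τ => (free τ).card = k).card * (p + 1) ^ k ≤
      k.factorial * (Module.length O (O ⧸ maximalIdeal O ^ (s * M + p + 1))).toNat := by
  classical
  set n := s * M + p + 1
  rw [length_eq_card x hx (le_refl (maximalIdeal O ^ n)), ENat.toNat_coe]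
  set F := (cones x M).filter fun τ => (free τ).card = k
  have hchoose : (p + 1) ^ k ≤ k.factorial * (p + k).choose k := by
    rw [← Nat.ascFactorial_eq_factorial_mul_choose]
    exact Nat.pow_succ_le_ascFactorial (p + 1) k
  refine le_trans (Nat.mul_le_mul_left _ hchoose) ?_
  rw [Nat.mul_left_comm]
  refine Nat.mul_le_mul_left _ ?_
  -- the exponent attached to a cone and a point of the simplex
  let Z : (Fin s → Fin (M + 1)) → Type := fun τ => Sym (Option (free τ)) p
  let g : (σ : Σ τ : {τ // τ ∈ F}, Z τ.1) → (Fin s →₀ ℕ) := fun σ =>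
    equivFunOnFinite.symm fun j => (σ.1.1 j : ℕ) +
      if h : j ∈ free σ.1.1 then Multiset.count (some ⟨j, h⟩) (σ.2 : Sym _ p).1 else 0
  have hF : ∀ τ : {τ // τ ∈ F}, τ.1 ∈ cones x M ∧ (free τ.1).card = k := fun τ =>
    Finset.mem_filter.mp τ.2
  have hcard : ∀ τ : {τ // τ ∈ F}, Fintype.card (Sym (Option (free τ.1)) p) = (p + k).choose k := by
    intro τ
    rw [Sym.card_sym_eq_choose, Fintype.card_option, Fintype.card_coe, (hF τ).2]
    rw [show k + 1 + p - 1 = p + k by omega]
    exact Nat.choose_symm_add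
  have hdom : Fintype.card (Σ τ : {τ // τ ∈ F}, Sym (Option (free τ.1)) p) =
      F.card * (p + k).choose k := by
    rw [Fintype.card_sigma, Finset.sum_congr rfl (fun τ _ => hcard τ)]
    simp
  rw [← hdom, ← Finset.card_univ]
  have htr : ∀ σ, trunc M (g σ) = toExp σ.1.1 := by
    intro σ
    ext j
    simp only [trunc_apply, g, toExp, Finsupp.equivFunOnFinite_symm_apply_apply]
    by_cases h : j ∈ free σ.1.1
    · rw [dif_pos h, (Finset.mem_filter.mp h).2]; omega
    · rw [dif_neg h]
      have := (σ.1.1 j).is_lt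
      omega
  refine Finset.card_le_card_of_injOn g ?_ ?_
  · intro σ _
    have hdeg : (g σ).degree < n := by
      rw [Finsupp.degree_eq_sum]
      simp only [g, Finsupp.equivFunOnFinite_symm_apply_apply, Finset.sum_add_distrib]
      have h1 : ∑ j, (σ.1.1 j : ℕ) ≤ s * M := by
        refine le_trans (Finset.sum_le_card_nsmul _ _ M fun j _ => Nat.le_of_lt_succ (σ.1.1 j).is_lt) ?_
        simp
      have h2 : ∑ j, (if h : j ∈ free σ.1.1 then
          Multiset.count (some (⟨j, h⟩ : free σ.1.1)) (σ.2 : Sym _ p).1 else 0) ≤ p := by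
        set v : Option (free σ.1.1) → ℕ := fun o => Multiset.count o (σ.2 : Sym _ p).1
        have hv : ∑ o, v o = p := by
          simp only [v]
          rw [Multiset.sum_count_eq_card (fun a _ => Finset.mem_univ a)]
          exact σ.2.2
        rw [Fintype.sum_option] at hv
        have : (∑ j, if h : j ∈ free σ.1.1 then v (some ⟨j, h⟩) else 0) = ∑ a, v (some a) := by
          symm
          rw [← Finset.sum_subset (Finset.subset_univ (free σ.1.1)) (fun j _ hj => dif_neg hj),
            ← Finset.sum_attach (free σ.1.1), ← Finset.univ_eq_attach]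
          refine Finset.sum_congr rfl fun a _ => ?_
          rw [dif_pos a.2]
        simp only [v] at this hv
        omega
      omega
    refine Finset.mem_filter.mpr ⟨mem_box.mpr hdeg, notMem_U_pow x hx hdeg ?_⟩
    rw [← hM, htr]
    exact (Finset.mem_filter.mp (hF σ.1).1).2
  · intro σ _ σ' _ h
    obtain ⟨⟨τ, hτ⟩, z⟩ := σ
    obtain ⟨⟨τ', hτ'⟩, z'⟩ := σ'
    have ht : τ = τ' := by
      have := (htr ⟨⟨τ, hτ⟩, z⟩).symm.trans ((congrArg (trunc M) h).trans (htr ⟨⟨τ', hτ'⟩, z'⟩))
      funext j
      apply Fin.ext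
      simpa [toExp] using DFunLike.congr_fun this j
    subst ht
    have hsome : ∀ a : free τ, Multiset.count (some a) z.1 = Multiset.count (some a) z'.1 := by
      intro a
      have := DFunLike.congr_fun h a.1
      simpa [g, dif_pos a.2] using this
    have hz : z = z' := by
      apply Sym.ext
      apply Multiset.ext.mpr
      intro o
      cases o with
      | some a => exact hsome a
      | none =>
        have e1 : ∑ o, Multiset.count o z.1 = p := by
          rw [Multiset.sum_count_eq_card (fun a _ => Finset.mem_univ a)]; exact z.2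
        have e2 : ∑ o, Multiset.count o z'.1 = p := by
          rw [Multiset.sum_count_eq_card (fun a _ => Finset.mem_univ a)]; exact z'.2
        rw [Fintype.sum_option] at e1
        simp only [hsome] at e1
        rw [Fintype.sum_option] at e2
        change Multiset.count none z.1 = Multiset.count none z'.1
        simp only [Finset.univ_eq_attach] at e1 e2
        convert Nat.add_right_cancel (e1.trans e2.symm) using 1
    subst hz
    rfl

end H1Lech
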